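import Cfsg.Prelude.Def_Classical
import Cfsg.Agent.Lib.KnownSimple.PSUAut.Groups

/-!
# A computable field with four elements

Digits `0, 1, 2 = ω, 3 = ω + 1`.
-/

set_option autoImplicit false

namespace CfsgLib.U62Type

/-- The field with four elements. -/
structure F4 where
  /-- The digit. -/
  v : Fin 4
deriving DecidableEq

namespace F4

instance : Fintype F4 := Fintype.ofEquiv (Fin 4) ⟨F4.mk, F4.v, fun _ => rfl, fun _ => rfl⟩

/-- Addition of digits. -/
def addT : List (Fin 4) := [0, 1, 2, 3, 1, 0, 3, 2, 2, 3, 0, 1, 3, 2, 1, 0]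

/-- Multiplication of digits. -/
def mulT : List (Fin 4) := [0, 0, 0, 0, 0, 1, 2, 3, 0, 2, 3, 1, 0, 3, 1, 2]

instance : Zero F4 := ⟨⟨0⟩⟩
instance : One F4 := ⟨⟨1⟩⟩
instance : Add F4 := ⟨fun a b => ⟨addT.getD (4 * a.v.val + b.v.val) 0⟩⟩
instance : Mul F4 := ⟨fun a b => ⟨mulT.getD (4 * a.v.val + b.v.val) 0⟩⟩
instance : Neg F4 := ⟨fun a => a⟩
instance : Inv F4 := ⟨fun a => a * a⟩

instance instField : Field F4 where
  add_assoc := by decide +kernel
  zero_add := by decide +kernel
  add_zero := by decide +kernel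
  add_comm := by decide +kernel
  neg_add_cancel := by decide +kernel
  mul_assoc := by decide +kernel
  one_mul := by decide +kernel
  mul_one := by decide +kernel
  mul_comm := by decide +kernel
  left_distrib := by decide +kernel
  right_distrib := by decide +kernel
  zero_mul := by decide +kernel
  mul_zero := by decide +kernel
  exists_pair_ne := ⟨0, 1, by decide⟩
  mul_inv_cancel := by decide +kernel
  inv_zero := by decide +kernel
  nsmul := nsmulRec
  zsmul := zsmulRec
  nnqsmul := _
  qsmul := _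

theorem card : Fintype.card F4 = 4 := rfl

theorem card' : Fintype.card F4 = 2 ^ 2 := rfl

/-- The primitive cube root. -/
def w : F4 := ⟨2⟩

theorem test_herm : Cfsg.hermForm 4 F4 2 ![1, w, 1, w] ![1, w, 1, w] = 0 ∧
    Cfsg.hermForm 4 F4 2 ![1, w, 1, 0] ![0, w, 0, w] = 1 := by decide +kernel

theorem test_mat : ((!![1, w; 0, 1] : Matrix (Fin 2) (Fin 2) F4) * !![1, w; 0, 1]) = 1 := by decide +kernel

end F4

end CfsgLib.U62Type
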