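import Cfsg.Agent.Lib.U62Type.F4
import Cfsg.Agent.Lib.U6Central.Points

/-!
# Generators of `SU₄(2)`

Four diagonal elements of order three fixing a coordinate, three transpositions, and one more
element commuting with the first diagonal element.
-/

set_option autoImplicit false
set_option maxRecDepth 100000

namespace CfsgLib.U62Type

open Matrix
open CfsgLib.PSUAut (Isot act act_ext)

local notation "SU4" => Cfsg.SU 4 F4 2
local notation "V4" => Fin 4 → F4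
local notation "M4" => Matrix (Fin 4) (Fin 4) F4

theorem add_sq (a b : F4) : (a + b) ^ 2 = a ^ 2 + b ^ 2 := by revert a b; decide +kernel

theorem sq_sum (f : Fin 4 → F4) : (∑ k, f k) ^ 2 = ∑ k, f k ^ 2 := by
  simp only [Fin.sum_univ_four, add_sq]

theorem herm_mulVec {M : M4} (hM : ∀ j k, ∑ i, M i j * (M i k) ^ 2 = if j = k then 1 else 0) (u v : V4) :
    Cfsg.hermForm 4 F4 2 (M *ᵥ u) (M *ᵥ v) = Cfsg.hermForm 4 F4 2 u v := by
  simp only [Cfsg.hermForm, Matrix.mulVec, dotProduct, sq_sum, mul_pow]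
  rw [show ∑ i, (∑ j, M i j * u j) * ∑ k, M i k ^ 2 * v k ^ 2 =
      ∑ j, ∑ k, (∑ i, M i j * M i k ^ 2) * (u j * v k ^ 2) from ?_]
  · simp only [hM, ite_mul, one_mul, zero_mul, Finset.sum_ite_eq, Finset.mem_univ, if_true]
  · simp only [Fin.sum_univ_four]
    ring

/-- The check of a matrix. -/
abbrev SUOk (M : M4) : Prop :=
  M.det = 1 ∧ ∀ j k, ∑ i, M i j * (M i k) ^ 2 = if j = k then 1 else 0

/-- An element from its matrix. -/
def mkSU (M : M4) (h : SUOk M) : SU4 :=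
  ⟨⟨M, h.1⟩, fun u v => herm_mulVec h.2 u v⟩

theorem su_ext {A B : SU4} (h : (A.1 : M4) = B.1) : A = B := Subtype.ext (Subtype.ext h)

theorem coe_mul (A B : SU4) : ((A * B : SU4).1 : M4) = (A.1 : M4) * (B.1 : M4) := rfl

/-- The matrices of the diagonal elements. -/
def cMat (i : Fin 4) : M4 := Matrix.diagonal fun j => if j = i then 1 else F4.w

/-- The matrices of the transpositions of neighbours. -/
def tMat : Fin 3 → M4 :=
  ![!![0, 1, 0, 0; 1, 0, 0, 0; 0, 0, 1, 0; 0, 0, 0, 1],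
    !![1, 0, 0, 0; 0, 0, 1, 0; 0, 1, 0, 0; 0, 0, 0, 1],
    !![1, 0, 0, 0; 0, 1, 0, 0; 0, 0, 0, 1; 0, 0, 1, 0]]

/-- The matrix of the further element. -/
def gMat : M4 :=
  !![⟨2⟩, 0, 0, 0; 0, 1, ⟨3⟩, ⟨3⟩; 0, ⟨3⟩, 1, ⟨3⟩; 0, ⟨3⟩, ⟨3⟩, 1]

theorem cMat_ok : ∀ i, SUOk (cMat i) := by decide +kernel

theorem tMat_ok : ∀ i, SUOk (tMat i) := by decide +kernel

theorem gMat_ok : SUOk gMat := by decide +kernel

/-- A diagonal element. -/
def cE (i : Fin 4) : SU4 := mkSU (cMat i) (cMat_ok i)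

/-- A transposition. -/
def tE (i : Fin 3) : SU4 := mkSU (tMat i) (tMat_ok i)

/-- The further element. -/
def gE : SU4 := mkSU gMat gMat_ok

/-- The transposition acting on coordinates. -/
def swp : Fin 3 → Fin 4 → Fin 4 := ![![1, 0, 2, 3], ![0, 2, 1, 3], ![0, 1, 3, 2]]

theorem mat_rels : (∀ i, cMat i * cMat i * cMat i = 1) ∧ (∀ i j, cMat i * cMat j = cMat j * cMat i) ∧
    cMat 0 * cMat 1 * cMat 2 * cMat 3 = 1 ∧ (∀ k, tMat k * tMat k = 1) ∧
    (∀ k i, tMat k * cMat i * tMat k = cMat (swp k i)) ∧ gMat * cMat 0 = cMat 0 * gMat ∧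
    gMat * gMat * gMat = 1 ∧ cMat 0 ≠ 1 := by
  decide +kernel

theorem cE_cube (i : Fin 4) : cE i * cE i * cE i = 1 := su_ext (mat_rels.1 i)

theorem cE_comm (i j : Fin 4) : cE i * cE j = cE j * cE i := su_ext (mat_rels.2.1 i j)

theorem cE_prod : cE 0 * cE 1 * cE 2 * cE 3 = 1 := su_ext mat_rels.2.2.1

theorem tE_sq (k : Fin 3) : tE k * tE k = 1 := su_ext (mat_rels.2.2.2.1 k)

theorem tE_conj (k : Fin 3) (i : Fin 4) : tE k * cE i * tE k = cE (swp k i) := su_ext (mat_rels.2.2.2.2.1 k i)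

theorem gE_comm : gE * cE 0 = cE 0 * gE := su_ext mat_rels.2.2.2.2.2.1

theorem gE_cube : gE * gE * gE = 1 := su_ext mat_rels.2.2.2.2.2.2.1

theorem cE_ne_one : cE 0 ≠ 1 := fun h => mat_rels.2.2.2.2.2.2.2 (congrArg (fun A : SU4 => (A.1 : M4)) h)

/-- The transpositions of two coordinates as matrices. -/
def swapMats : List M4 :=
  [tMat 0, tMat 1, tMat 2, tMat 1 * tMat 0 * tMat 1, tMat 2 * tMat 1 * tMat 2,
    tMat 2 * (tMat 1 * tMat 0 * tMat 1) * tMat 2, gMat * tMat 0 * (gMat * gMat)]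

/-- The diagonal matrices in the subgroup of the diagonal generators. -/
def diagMats : List (M4 × M4) :=
  (List.range 27).map fun a =>
    (cMat 0 ^ (a % 3) * cMat 1 ^ (a / 3 % 3) * cMat 2 ^ (a / 9),
     cMat 0 ^ ((3 - a % 3) % 3) * cMat 1 ^ ((3 - a / 3 % 3) % 3) * cMat 2 ^ ((3 - a / 9) % 3))

/-- The matrix of the transvection with centre `v`. -/
def transMat (v : V4) : M4 := fun i j => (if i = j then 1 else 0) + v j ^ 2 * v i

theorem trans_found : ∀ v : V4, Cfsg.hermForm 4 F4 2 v v = 0 → v ≠ 0 →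
    (diagMats.any fun d => swapMats.any fun t => decide (d.1 * t * d.2 = transMat v)) = true := by
  decide +kernel

theorem mat_of_isPt {A : SU4} {v : V4} (h : CfsgLib.SURadical.IsPt A v) : (A.1 : M4) = transMat v := by
  refine Matrix.ext_of_mulVec_single fun j => ?_
  funext i
  refine (congrFun (h.2 (Pi.single j 1)) i).trans ?_
  simp [transMat, Cfsg.hermForm, Pi.single_apply, Matrix.mulVec_single, mul_comm]

/-- The generators generate. -/
theorem closure_gens {H : Subgroup SU4} (hc : ∀ i, cE i ∈ H) (ht : ∀ k, tE k ∈ H) (hg : gE ∈ H) : H = ⊤ := by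
  rw [eq_top_iff, ← CfsgLib.U6Central.closure_pts (F := F4) F4.card', Subgroup.closure_le]
  rintro A ⟨v, hv⟩
  have hf := trans_found v hv.1.2 hv.1.1
  simp only [List.any_eq_true, decide_eq_true_eq] at hf
  obtain ⟨d, hd, t, ht', e⟩ := hf
  have hmul : ∀ {X Y : M4}, (∃ B ∈ H, (B.1 : M4) = X) → (∃ B ∈ H, (B.1 : M4) = Y) →
      ∃ B ∈ H, (B.1 : M4) = X * Y := by
    rintro X Y ⟨B, hB, rfl⟩ ⟨C, hC, rfl⟩
    exact ⟨B * C, H.mul_mem hB hC, rfl⟩
  have hpow : ∀ {X : M4} (n : ℕ), (∃ B ∈ H, (B.1 : M4) = X) → ∃ B ∈ H, (B.1 : M4) = X ^ n := by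
    intro X n hX
    induction n with
    | zero => exact ⟨1, H.one_mem, by simp⟩
    | succ n ih => rw [pow_succ]; exact hmul ih hX
  have hcm : ∀ i, ∃ B ∈ H, (B.1 : M4) = cMat i := fun i => ⟨cE i, hc i, rfl⟩
  have htm : ∀ i, ∃ B ∈ H, (B.1 : M4) = tMat i := fun i => ⟨tE i, ht i, rfl⟩
  have hgm : ∃ B ∈ H, (B.1 : M4) = gMat := ⟨gE, hg, rfl⟩
  simp only [diagMats, List.mem_map] at hd
  obtain ⟨a, -, rfl⟩ := hd
  have hd1 : ∀ x y z : ℕ, ∃ B ∈ H, (B.1 : M4) = cMat 0 ^ x * cMat 1 ^ y * cMat 2 ^ z := fun x y z =>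
    hmul (hmul (hpow x (hcm 0)) (hpow y (hcm 1))) (hpow z (hcm 2))
  have htw : ∃ B ∈ H, (B.1 : M4) = t := by
    simp only [swapMats, List.mem_cons, List.not_mem_nil, or_false] at ht'
    rcases ht' with rfl | rfl | rfl | rfl | rfl | rfl | rfl
    · exact htm 0
    · exact htm 1
    · exact htm 2
    · exact hmul (hmul (htm 1) (htm 0)) (htm 1)
    · exact hmul (hmul (htm 2) (htm 1)) (htm 2)
    · exact hmul (hmul (htm 2) (hmul (hmul (htm 1) (htm 0)) (htm 1))) (htm 2)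
    · exact hmul (hmul hgm (htm 0)) (hmul hgm hgm)
  obtain ⟨B, hB, hBe⟩ := hmul (hmul (hd1 _ _ _) htw) (hd1 _ _ _)
  rwa [show A = B from su_ext ((mat_of_isPt hv).trans (e.symm.trans hBe.symm))]

end CfsgLib.U62Type
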